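import Cfsg.Agent.Coset.Fi23.Order
import Cfsg.Agent.Coset.Fi22.Order
import Cfsg.Prelude.Def_SporadicB

/-! In `Cfsg.Spor.Fi23` the subgroup `⟨a, …, i⟩` is a non-split double cover of `Cfsg.Spor.Fi22`. -/

set_option autoImplicit false
set_option maxRecDepth 100000
set_option Elab.async false

namespace CfsgLib.Coset.Fi23

/-- The letters other than `j`, in the order of `Fi22`. -/
def S22 : List Nat := [0, 1, 2, 3, 4, 5, 6, 8, 9]

/-- The central word. -/
def zw : List Nat := (List.replicate 9 [1, 2, 3, 4, 5, 6, 8]).flatten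

theorem H_eq : H = genBy Lg S22 := genW_singletons S22

theorem fl_mem_H {l : Nat} (hl : l < 9) : fl (lv Lg S22) l ∈ H := by
  rw [H_eq]
  refine Subgroup.subset_closure ?_
  rw [fl, List.getD_eq_getElem _ _ (by simpa [lv, S22] using hl)]
  exact List.getElem_mem _

theorem fl_mem_H' (l : Nat) : fl (lv Lg S22) l ∈ H := by
  rcases lt_or_ge l 9 with hl | hl
  · exact fl_mem_H hl
  · rw [fl_of_le _ (by simpa [lv, S22] using hl)]; exact H.one_mem

/-- The generators of `H` as elements of `H`. -/
noncomputable def LH : List H := (List.range 9).map fun l => ⟨fl (lv Lg S22) l, fl_mem_H' l⟩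

theorem coe_fl_LH (l : Nat) : ((fl LH l : H) : Cfsg.Spor.Fi23) = fl (lv Lg S22) l := by
  rcases lt_or_ge l 9 with hl | hl
  · simp [fl, LH, List.getD_eq_getElem?_getD, hl]
  · rw [fl_of_le _ (by simpa [LH] using hl), fl_of_le _ (by simpa [lv, S22] using hl)]; rfl

theorem coe_ev_LH (w : List Nat) :
    ((ev LH w : H) : Cfsg.Spor.Fi23) = ev Lg (w.map fun l => S22.getD l 10) := by
  rw [← len_Lg, ← ev_lv]
  induction w with
  | nil => simp
  | cons l w ih => simp [ev_cons, coe_fl_LH, ih]

theorem closure_LH : Subgroup.closure {x | x ∈ LH} = ⊤ := by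
  apply Subgroup.map_injective H.subtype_injective
  rw [MonoidHom.map_closure, ← MonoidHom.range_eq_map, Subgroup.range_subtype]
  conv_rhs => rw [H_eq, genBy]
  congr 1
  ext x
  constructor
  · rintro ⟨y, hy, rfl⟩
    obtain ⟨l, hl, rfl⟩ := List.mem_map.mp hy
    show fl (lv Lg S22) l ∈ lv Lg S22
    rw [fl, List.getD_eq_getElem _ _ (by simpa [lv, S22] using List.mem_range.mp hl)]
    exact List.getElem_mem _
  · intro hx
    obtain ⟨l, hl, rfl⟩ := List.getElem_of_mem hx
    refine ⟨⟨fl (lv Lg S22) l, fl_mem_H' l⟩, List.mem_map.mpr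
      ⟨l, List.mem_range.mpr (by simpa [lv, S22] using hl), rfl⟩, ?_⟩
    show fl (lv Lg S22) l = _
    rw [fl, List.getD_eq_getElem _ _ hl]

/-- The central involution. -/
noncomputable def z : H := ev LH (List.replicate 9 [1, 2, 3, 4, 5, 6, 7]).flatten

theorem coe_z : ((z : H) : Cfsg.Spor.Fi23) = ev Lg zw := by
  rw [z, coe_ev_LH]
  exact congrArg (ev Lg) (by decide +kernel)

theorem z_center : z ∈ Subgroup.center H := by
  rw [Subgroup.mem_center_iff]
  intro g
  induction (closure_LH.symm ▸ Subgroup.mem_top g : g ∈ Subgroup.closure {x | x ∈ LH})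
    using Subgroup.closure_induction with
  | mem x hx =>
    obtain ⟨l, hl, rfl⟩ := List.mem_map.mp hx
    apply Subtype.ext
    show fl (lv Lg S22) l * (z : Cfsg.Spor.Fi23) = (z : Cfsg.Spor.Fi23) * fl (lv Lg S22) l
    rw [fl_lv, coe_z, len_Lg]
    have key : ∀ m ∈ List.range 9,
        ev Lg ([S22.getD m 10] ++ zw) = ev Lg (zw ++ [S22.getD m 10]) := by
      intro m hm
      have hm' : m < 9 := List.mem_range.mp hm
      interval_cases m <;> exact ev_eq (by decide +kernel) (by decide +kernel) (by decide +kernel)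
    simpa [ev_append] using key l hl
  | one => simp
  | mul a b _ _ ha hb => rw [mul_assoc, hb, ← mul_assoc, ha, mul_assoc]
  | inv a _ ha => exact (Commute.inv_left (a := a) ha).eq

theorem z_sq : z * z = 1 := by
  apply Subtype.ext
  show (z : Cfsg.Spor.Fi23) * z = 1
  rw [coe_z, ← ev_append, ← ev_nil (L := Lg)]
  exact ev_eq (by decide +kernel) (by decide +kernel) (by decide +kernel)

theorem z_ne_one : z ≠ 1 := by
  intro h
  have h1 : ev Lg zw = 1 := by rw [← coe_z, h]; rfl
  have hl : ∀ l ∈ zw, l < (Lg).length := by decide +kernel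
  have hf : follow (tget Top.Tb) (1 : Fin 31671) zw = ((1 : Fin 31671) : Nat) :=
    (matches_ρ.fix_iff hl).mp (by rw [h1, map_one ρ, Equiv.Perm.one_apply])
  have hn : Nat.beq (follow (tget Top.Tb) 1 zw) 1 = false := by decide +kernel
  rw [show ((1 : Fin 31671) : Nat) = 1 from rfl] at hf
  rw [hf] at hn
  simp at hn

/-- The subgroup generated by the central involution. -/
noncomputable abbrev Z : Subgroup H := Subgroup.zpowers z

theorem card_Z : Nat.card Z = 2 := by
  rw [Nat.card_zpowers]
  exact orderOf_eq_prime (by rw [pow_two]; exact z_sq) z_ne_one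

instance normal_Z : (Z).Normal := by
  refine ⟨fun n hn g => ?_⟩
  have hc : n ∈ Subgroup.center H := (Subgroup.zpowers_le.mpr z_center) hn
  rw [Subgroup.mem_center_iff.mp hc g]
  simpa using hn

theorem card_quot : Nat.card (H ⧸ Z) = 64561751654400 := by
  have := card_le.1
  have h1 := Subgroup.card_mul_index H
  rw [index_and_eq.1, card_and_injective.1] at h1
  have h2 := Subgroup.card_eq_card_quotient_mul_card_subgroup Z
  rw [card_Z] at h2
  omega

theorem rels22 : ∀ w ∈ Fi22.pres.rels,
    ev (LH.map (QuotientGroup.mk' Z)) w = 1 := by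
  rw [Fi22.rels_eq]
  intro w hw
  have hmap : ∀ v : List Nat, ev (LH.map (QuotientGroup.mk' Z)) v = QuotientGroup.mk' Z (ev LH v) := by
    intro v
    induction v with
    | nil => simp
    | cons l v ih =>
      rw [ev_cons, ev_cons, map_mul, ih]
      congr 1
      rcases lt_or_ge l LH.length with hl | hl
      · simp [fl, List.getD_eq_getElem?_getD, List.getElem?_eq_getElem hl]
      · rw [fl_of_le _ hl, fl_of_le _ (by simpa using hl), map_one]
  rw [hmap, QuotientGroup.mk'_apply, QuotientGroup.eq_one_iff]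
  have hd : (Fi22.rels.all fun w => rels.contains (w.map fun l => S22.getD l 10) ||
      wordEq (w.map fun l => S22.getD l 10) zw) = true := by decide +kernel
  have := List.all_eq_true.mp hd w hw
  rcases Bool.or_eq_true _ _ ▸ this with h | h
  · have : ev LH w = 1 := Subtype.ext (by
      rw [coe_ev_LH, ev_rels _ (List.contains_iff_mem.mp h)]; rfl)
    rw [this]; exact one_mem _
  · have : ev LH w = z := Subtype.ext (by rw [coe_ev_LH, eq_of_wordEq h, coe_z])
    rw [this]; exact Subgroup.mem_zpowers z

/-- The map from `Fi22`. -/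
noncomputable def φ : Cfsg.Spor.Fi22 →* H ⧸ Z := Fi22.pres.hom Fi22.pres_ok rels22

theorem φ_surjective : Function.Surjective φ := by
  rw [← MonoidHom.range_eq_top, eq_top_iff]
  rintro x -
  induction x using QuotientGroup.induction_on with
  | _ g =>
    induction (closure_LH.symm ▸ Subgroup.mem_top g : g ∈ Subgroup.closure {x | x ∈ LH})
      using Subgroup.closure_induction with
    | mem y hy =>
      obtain ⟨l, hl, rfl⟩ := List.mem_map.mp hy
      obtain ⟨a, rfl⟩ := Fi22.hix l (List.mem_range.mp hl)
      refine ⟨fl Fi22.pres.gens (Fi22.ix a), (Fi22.pres.hom_fl Fi22.pres_ok rels22 a).trans ?_⟩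
      simp [fl, LH, List.getD_eq_getElem?_getD, List.mem_range.mp hl]
    | one => exact one_mem _
    | mul a b _ _ ha hb => exact mul_mem ha hb
    | inv a _ ha => exact inv_mem ha

theorem φ_bijective : Function.Bijective φ := by
  have := Fi22.card_le.1
  have := card_le.1
  exact φ_surjective.bijective_of_nat_card_le
    (by rw [card_quot, Fi22.card_and_injective.1])

theorem center_eq : Subgroup.center H = Z := by
  refine le_antisymm (fun c hc => ?_) (Subgroup.zpowers_le.mpr z_center)
  rw [← QuotientGroup.eq_one_iff c]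
  obtain ⟨a, ha⟩ := φ_surjective (c : H ⧸ Z)
  have hac : a ∈ Subgroup.center Cfsg.Spor.Fi22 := by
    rw [Subgroup.mem_center_iff]
    intro g
    apply φ_bijective.1
    obtain ⟨g', hg'⟩ := QuotientGroup.mk_surjective (φ g)
    rw [map_mul, map_mul, ha, ← hg', ← QuotientGroup.mk_mul, ← QuotientGroup.mk_mul,
      Subgroup.mem_center_iff.mp hc g']
  have := Fi22.isSimple
  rcases (Subgroup.Normal.eq_bot_or_eq_top (inferInstance : (Subgroup.center Cfsg.Spor.Fi22).Normal))
    with h | h
  · rw [h, Subgroup.mem_bot] at hac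
    rw [← ha, hac, map_one]
  · exfalso
    letI : CommGroup Cfsg.Spor.Fi22 := { (inferInstance : Group Cfsg.Spor.Fi22) with
      mul_comm := fun x y => (Subgroup.mem_center_iff.mp (h ▸ Subgroup.mem_top y) x) }
    have := Fi22.card_le.1
    haveI : IsSimpleGroup Cfsg.Spor.Fi22 := Fi22.isSimple
    have hp := (IsSimpleGroup.prime_card (α := Cfsg.Spor.Fi22))
    rw [Fi22.card_and_injective.1] at hp
    exact (Nat.not_prime_of_dvd_of_lt (m := 2) (by norm_num) le_rfl (by norm_num)) hp

theorem no_complement (K : Subgroup H) : ¬ (Subgroup.center H).IsComplement' K := by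
  intro hK
  have hi : K.index = 2 := by rw [hK.index_eq_card, center_eq, card_Z]
  have h2 : ∀ l p, ev LH [l, p, l, p, l, p] = 1 → (fl LH l ∈ K ↔ fl LH p ∈ K) := by
    intro l p h
    have h' := K.one_mem
    rw [← h] at h'
    simp only [ev_cons, ev_nil, mul_one, Subgroup.mul_mem_iff_of_index_two hi] at h'
    tauto
  have hr : ∀ w : List Nat, rels.contains (w.map fun l => S22.getD l 10) = true → ev LH w = 1 := by
    intro w h
    exact Subtype.ext (by rw [coe_ev_LH, ev_rels _ (List.contains_iff_mem.mp h)]; rfl)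
  have e01 := h2 0 1 (hr _ (by decide +kernel))
  have e12 := h2 1 2 (hr _ (by decide +kernel))
  have e23 := h2 2 3 (hr _ (by decide +kernel))
  have e34 := h2 3 4 (hr _ (by decide +kernel))
  have e45 := h2 4 5 (hr _ (by decide +kernel))
  have e56 := h2 5 6 (hr _ (by decide +kernel))
  have e37 := h2 3 7 (hr _ (by decide +kernel))
  have e78 := h2 7 8 (hr _ (by decide +kernel))
  have hall : ∀ l < 9, (fl LH l ∈ K ↔ fl LH 0 ∈ K) := by
    intro l hl
    interval_cases l <;> tauto
  have hword : ∀ w : List Nat, (∀ l ∈ w, l < 9) →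
      (ev LH w ∈ K ↔ (w.length % 2 = 1 → fl LH 0 ∈ K)) := by
    intro w
    induction w with
    | nil => intro _; simp
    | cons l w ih =>
      intro h
      rw [ev_cons, Subgroup.mul_mem_iff_of_index_two hi, hall l (h l (by simp)),
        ih (fun x hx => h x (by simp [hx])), List.length_cons]
      rcases Nat.mod_two_eq_zero_or_one w.length with he | he <;>
        simp [he, Nat.add_mod]
  have h0 : fl LH 0 ∈ K := by
    have h := hword (List.replicate 9 [0, 1, 2, 3, 4, 5, 7]).flatten (by decide +kernel)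
    rw [hr _ (by decide +kernel)] at h
    exact h.mp K.one_mem (by decide +kernel)
  have htop : K = ⊤ := by
    rw [eq_top_iff, ← closure_LH, Subgroup.closure_le]
    intro x hx
    obtain ⟨l, hl, rfl⟩ := List.getElem_of_mem hx
    have := (hall l (by simpa [LH] using hl)).mpr h0
    rwa [fl, List.getD_eq_getElem _ _ hl] at this
  rw [htop, Subgroup.index_top] at hi
  simp at hi

theorem double_cover : Cfsg.IsNonsplitDoubleCover H Cfsg.Spor.Fi22 :=
  ⟨by rw [center_eq, card_Z],
    ⟨(QuotientGroup.quotientMulEquivOfEq center_eq).trans (MulEquiv.ofBijective φ φ_bijective).symm⟩,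
    no_complement⟩

end CfsgLib.Coset.Fi23
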