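import Cfsg.Agent.Coset.Chain
import Cfsg.Agent.Coset.Fi23.TopData
import Cfsg.Agent.Coset.Fi23.OrbData

/-! Orbit checks for the action on 31671 points. -/

set_option autoImplicit false
set_option maxRecDepth 100000
set_option Elab.async false

namespace CfsgLib.Coset.Fi23.Orb

theorem orbit0 : checkOrbit Top.Tb 1 28160 15 Top.subs H0P H0Inv = true := by decide +kernel
theorem orbit1 : checkOrbit Top.Tb 52 3510 15 Top.subs H1P H1Inv = true := by decide +kernel
theorem closed1 : checkClosed Top.Tb 3510 15 Top.subs H1P H1Inv = true := by decide +kernel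

end CfsgLib.Coset.Fi23.Orb
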