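import Cfsg.Agent.Coset.Chain
import Cfsg.Agent.Coset.Fi23.TopData
import Cfsg.Agent.Coset.Fi23.OrbData
import Cfsg.Agent.Coset.Blocks

/-! Orbit checks for the action on 31671 points. -/

set_option autoImplicit false
set_option maxRecDepth 100000
set_option Elab.async false

namespace CfsgLib.Coset.Fi23.Orb

/-- The body of `checkClosed` for the long orbit. -/
noncomputable def closedAt0 (j : Nat) : Bool := allList (fun g =>
    cond (Nat.ble (Nat.add (field (H0Inv (follow (tget Top.Tb) (opt H0P j) g)) 0) 1) 28160)
      (Nat.beq (opt H0P (field (H0Inv (follow (tget Top.Tb) (opt H0P j) g)) 0))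
        (follow (tget Top.Tb) (opt H0P j) g))
      false) Top.subs

theorem closed0_0 : belowBlock 13 28160 closedAt0 0 = true := by decide +kernel
theorem closed0_1 : belowBlock 13 28160 closedAt0 1 = true := by decide +kernel
theorem closed0_2 : belowBlock 13 28160 closedAt0 2 = true := by decide +kernel
theorem closed0_3 : belowBlock 13 28160 closedAt0 3 = true := by decide +kernel

theorem closed0 : checkClosed Top.Tb 28160 (13 + 2) Top.subs H0P H0Inv = true :=
  allBelow_of_blocks (by decide +kernel) fun b hb => by
    have : b < 4 := hb
    interval_cases b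
    · exact closed0_0
    · exact closed0_1
    · exact closed0_2
    · exact closed0_3

end CfsgLib.Coset.Fi23.Orb
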