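import Cfsg.Agent.Coset.Blocks
import Cfsg.Agent.Coset.Table
import Cfsg.Agent.Coset.Fi23.Rels
import Cfsg.Agent.Coset.Fi23.TopData

set_option autoImplicit false
set_option maxRecDepth 100000
set_option Elab.async false

namespace CfsgLib.Coset.Fi23.Top

theorem hsteps8 : belowBlock 8 2764 (chunkAt E id R 10 41947 C) 8 = true := by decide +kernel
theorem hsteps9 : belowBlock 8 2764 (chunkAt E id R 10 41947 C) 9 = true := by decide +kernel
theorem hsteps10 : belowBlock 8 2764 (chunkAt E id R 10 41947 C) 10 = true := by decide +kernel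
theorem hsteps11 : belowBlock 8 2764 (chunkAt E id R 10 41947 C) 11 = true := by decide +kernel

end CfsgLib.Coset.Fi23.Top
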