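import Cfsg.Agent.Coset.Fi23.TopTable0
import Cfsg.Agent.Coset.Fi23.TopTable1
import Cfsg.Agent.Coset.Fi23.TopSteps0
import Cfsg.Agent.Coset.Fi23.TopSteps1
import Cfsg.Agent.Coset.Fi23.TopSteps2
import Cfsg.Agent.Coset.Fi23.TopSteps3
import Mathlib.Tactic.IntervalCases

set_option autoImplicit false
set_option maxRecDepth 100000
set_option Elab.async false

namespace CfsgLib.Coset.Fi23.Top

theorem hR : checkRules rels subs R = true := by decide +kernel
theorem hdefs : checkDefs E 10 16 41947 = true := by decide +kernel
theorem hsteps : checkChunks E id R 10 (8 + 4) 41947 2764 C = true :=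
  checkChunks_of_blocks (by decide +kernel) fun b hb => by
    have : b < 16 := hb
    interval_cases b
    · exact hsteps0
    · exact hsteps1
    · exact hsteps2
    · exact hsteps3
    · exact hsteps4
    · exact hsteps5
    · exact hsteps6
    · exact hsteps7
    · exact hsteps8
    · exact hsteps9
    · exact hsteps10
    · exact hsteps11
    · exact hsteps12
    · exact hsteps13
    · exact hsteps14
    · exact hsteps15

theorem htable : checkTable E id (41947 + chunk * 2764) 31671 10 (12 + 3) 4 Rep Ref Tb = true :=
  checkTable_of_blocks (by decide +kernel) (by decide +kernel) fun b hb => by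
    have : b < 8 := hb
    interval_cases b
    · exact htable0
    · exact htable1
    · exact htable2
    · exact htable3
    · exact htable4
    · exact htable5
    · exact htable6
    · exact htable7

end CfsgLib.Coset.Fi23.Top
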