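import Cfsg.Agent.Coset.Blocks
import Cfsg.Agent.Coset.Fi23.TopData

set_option autoImplicit false
set_option maxRecDepth 100000
set_option Elab.async false

namespace CfsgLib.Coset.Fi23.Top

theorem hperm4 : belowBlock 12 31671 (permAt id 31671 10 4 Tb) 4 = true := by decide +kernel
theorem hperm5 : belowBlock 12 31671 (permAt id 31671 10 4 Tb) 5 = true := by decide +kernel
theorem hperm6 : belowBlock 12 31671 (permAt id 31671 10 4 Tb) 6 = true := by decide +kernel
theorem hperm7 : belowBlock 12 31671 (permAt id 31671 10 4 Tb) 7 = true := by decide +kernel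

end CfsgLib.Coset.Fi23.Top
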