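import Cfsg.Agent.Coset.RelCheck
import Cfsg.Agent.Coset.Fi23.Rels
import Cfsg.Agent.Coset.Fi23.TopData
import Cfsg.Agent.Coset.Fi23.KData

set_option autoImplicit false
set_option maxRecDepth 100000
set_option Elab.async false

namespace CfsgLib.Coset.Fi23.Top

theorem hcoxeter0 : belowBlock 11 31671 (powAt Tb coxeter (powWord (coxeter, 9)) KC) 0 = true := by decide +kernel
theorem hcoxeter1 : belowBlock 11 31671 (powAt Tb coxeter (powWord (coxeter, 9)) KC) 1 = true := by decide +kernel
theorem hcoxeter2 : belowBlock 11 31671 (powAt Tb coxeter (powWord (coxeter, 9)) KC) 2 = true := by decide +kernel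
theorem hcoxeter3 : belowBlock 11 31671 (powAt Tb coxeter (powWord (coxeter, 9)) KC) 3 = true := by decide +kernel
theorem hcoxeter4 : belowBlock 11 31671 (powAt Tb coxeter (powWord (coxeter, 9)) KC) 4 = true := by decide +kernel
theorem hcoxeter5 : belowBlock 11 31671 (powAt Tb coxeter (powWord (coxeter, 9)) KC) 5 = true := by decide +kernel
theorem hcoxeter6 : belowBlock 11 31671 (powAt Tb coxeter (powWord (coxeter, 9)) KC) 6 = true := by decide +kernel
theorem hcoxeter7 : belowBlock 11 31671 (powAt Tb coxeter (powWord (coxeter, 9)) KC) 7 = true := by decide +kernel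
theorem hcoxeter8 : belowBlock 11 31671 (powAt Tb coxeter (powWord (coxeter, 9)) KC) 8 = true := by decide +kernel
theorem hcoxeter9 : belowBlock 11 31671 (powAt Tb coxeter (powWord (coxeter, 9)) KC) 9 = true := by decide +kernel
theorem hcoxeter10 : belowBlock 11 31671 (powAt Tb coxeter (powWord (coxeter, 9)) KC) 10 = true := by decide +kernel
theorem hcoxeter11 : belowBlock 11 31671 (powAt Tb coxeter (powWord (coxeter, 9)) KC) 11 = true := by decide +kernel
theorem hcoxeter12 : belowBlock 11 31671 (powAt Tb coxeter (powWord (coxeter, 9)) KC) 12 = true := by decide +kernel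
theorem hcoxeter13 : belowBlock 11 31671 (powAt Tb coxeter (powWord (coxeter, 9)) KC) 13 = true := by decide +kernel
theorem hcoxeter14 : belowBlock 11 31671 (powAt Tb coxeter (powWord (coxeter, 9)) KC) 14 = true := by decide +kernel
theorem hcoxeter15 : belowBlock 11 31671 (powAt Tb coxeter (powWord (coxeter, 9)) KC) 15 = true := by decide +kernel

end CfsgLib.Coset.Fi23.Top
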