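import Cfsg.Agent.Coset.RelCheck
import Cfsg.Agent.Coset.Fi23.Rels
import Cfsg.Agent.Coset.Fi23.TopData
import Cfsg.Agent.Coset.Fi23.KData

set_option autoImplicit false
set_option maxRecDepth 100000
set_option Elab.async false

namespace CfsgLib.Coset.Fi23.Top

theorem hpairs0 : belowBlock 11 31671 (pairsAt Tb pairs) 0 = true := by decide +kernel
theorem hpairs1 : belowBlock 11 31671 (pairsAt Tb pairs) 1 = true := by decide +kernel
theorem hpairs2 : belowBlock 11 31671 (pairsAt Tb pairs) 2 = true := by decide +kernel
theorem hpairs3 : belowBlock 11 31671 (pairsAt Tb pairs) 3 = true := by decide +kernel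

end CfsgLib.Coset.Fi23.Top
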