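import Cfsg.Agent.Coset.RelCheck
import Cfsg.Agent.Coset.Fi23.Rels
import Cfsg.Agent.Coset.Fi23.TopData
import Cfsg.Agent.Coset.Fi23.KData

set_option autoImplicit false
set_option maxRecDepth 100000
set_option Elab.async false

namespace CfsgLib.Coset.Fi23.Top

theorem hspider0 : belowBlock 11 31671 (powAt Tb spider (powWord (spider, 10)) KS) 0 = true := by decide +kernel
theorem hspider1 : belowBlock 11 31671 (powAt Tb spider (powWord (spider, 10)) KS) 1 = true := by decide +kernel
theorem hspider2 : belowBlock 11 31671 (powAt Tb spider (powWord (spider, 10)) KS) 2 = true := by decide +kernel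
theorem hspider3 : belowBlock 11 31671 (powAt Tb spider (powWord (spider, 10)) KS) 3 = true := by decide +kernel
theorem hspider4 : belowBlock 11 31671 (powAt Tb spider (powWord (spider, 10)) KS) 4 = true := by decide +kernel
theorem hspider5 : belowBlock 11 31671 (powAt Tb spider (powWord (spider, 10)) KS) 5 = true := by decide +kernel
theorem hspider6 : belowBlock 11 31671 (powAt Tb spider (powWord (spider, 10)) KS) 6 = true := by decide +kernel
theorem hspider7 : belowBlock 11 31671 (powAt Tb spider (powWord (spider, 10)) KS) 7 = true := by decide +kernel
theorem hspider8 : belowBlock 11 31671 (powAt Tb spider (powWord (spider, 10)) KS) 8 = true := by decide +kernel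
theorem hspider9 : belowBlock 11 31671 (powAt Tb spider (powWord (spider, 10)) KS) 9 = true := by decide +kernel
theorem hspider10 : belowBlock 11 31671 (powAt Tb spider (powWord (spider, 10)) KS) 10 = true := by decide +kernel
theorem hspider11 : belowBlock 11 31671 (powAt Tb spider (powWord (spider, 10)) KS) 11 = true := by decide +kernel
theorem hspider12 : belowBlock 11 31671 (powAt Tb spider (powWord (spider, 10)) KS) 12 = true := by decide +kernel
theorem hspider13 : belowBlock 11 31671 (powAt Tb spider (powWord (spider, 10)) KS) 13 = true := by decide +kernel
theorem hspider14 : belowBlock 11 31671 (powAt Tb spider (powWord (spider, 10)) KS) 14 = true := by decide +kernel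
theorem hspider15 : belowBlock 11 31671 (powAt Tb spider (powWord (spider, 10)) KS) 15 = true := by decide +kernel

end CfsgLib.Coset.Fi23.Top
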