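import Cfsg.Agent.Coset.Fi23.TopPerm0
import Cfsg.Agent.Coset.Fi23.TopPerm1
import Cfsg.Agent.Coset.Fi23.TopRelPairs0
import Cfsg.Agent.Coset.Fi23.TopRelPairs1
import Cfsg.Agent.Coset.Fi23.TopRelPairs2
import Cfsg.Agent.Coset.Fi23.TopRelPairs3
import Cfsg.Agent.Coset.Fi23.TopRelSpider0
import Cfsg.Agent.Coset.Fi23.TopRelCoxeter0
import Cfsg.Agent.Coset.Fi23.Top
import Mathlib.Tactic.IntervalCases

set_option autoImplicit false
set_option maxRecDepth 100000
set_option Elab.async false

namespace CfsgLib.Coset.Fi23.Top

theorem hpairs : allBelow (11 + 4) 31671 (pairsAt Tb pairs) = true :=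
  allBelow_of_blocks (by decide +kernel) fun b hb => by
    have : b < 16 := hb
    interval_cases b
    · exact hpairs0
    · exact hpairs1
    · exact hpairs2
    · exact hpairs3
    · exact hpairs4
    · exact hpairs5
    · exact hpairs6
    · exact hpairs7
    · exact hpairs8
    · exact hpairs9
    · exact hpairs10
    · exact hpairs11
    · exact hpairs12
    · exact hpairs13
    · exact hpairs14
    · exact hpairs15

theorem hspider : allBelow (11 + 4) 31671 (powAt Tb spider (powWord (spider, 10)) KS) = true :=
  allBelow_of_blocks (by decide +kernel) fun b hb => by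
    have : b < 16 := hb
    interval_cases b
    · exact hspider0
    · exact hspider1
    · exact hspider2
    · exact hspider3
    · exact hspider4
    · exact hspider5
    · exact hspider6
    · exact hspider7
    · exact hspider8
    · exact hspider9
    · exact hspider10
    · exact hspider11
    · exact hspider12
    · exact hspider13
    · exact hspider14
    · exact hspider15

theorem hcoxeter : allBelow (11 + 4) 31671 (powAt Tb coxeter (powWord (coxeter, 9)) KC) = true :=
  allBelow_of_blocks (by decide +kernel) fun b hb => by
    have : b < 16 := hb
    interval_cases b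
    · exact hcoxeter0
    · exact hcoxeter1
    · exact hcoxeter2
    · exact hcoxeter3
    · exact hcoxeter4
    · exact hcoxeter5
    · exact hcoxeter6
    · exact hcoxeter7
    · exact hcoxeter8
    · exact hcoxeter9
    · exact hcoxeter10
    · exact hcoxeter11
    · exact hcoxeter12
    · exact hcoxeter13
    · exact hcoxeter14
    · exact hcoxeter15

theorem hperm : checkPerm id 31671 10 (12 + 3) 4 Tb = true :=
  checkPerm_of_blocks (by decide +kernel) (by decide +kernel) fun b hb => by
    have : b < 8 := hb
    interval_cases b
    · exact hperm0
    · exact hperm1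
    · exact hperm2
    · exact hperm3
    · exact hperm4
    · exact hperm5
    · exact hperm6
    · exact hperm7

theorem htrans : checkTrans 31671 10 15 Tb Par = true := by decide +kernel

end CfsgLib.Coset.Fi23.Top
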