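import Cfsg.Agent.Coset.Chain
import Cfsg.Agent.Coset.Fi23.Data
import Cfsg.Agent.Coset.Fi23.TopPerm
import Cfsg.Agent.Coset.Fi23.OrbData
import Cfsg.Agent.Coset.Fi23.OrbCheck0
import Cfsg.Agent.Coset.Fi23.OrbCheck1
import Cfsg.Agent.Coset.Fi23.OrbCheck2

/-! The presented group `Cfsg.Spor.Fi23`: the rank 3 action on 31671 points. -/

set_option autoImplicit false
set_option maxRecDepth 100000
set_option Elab.async false

namespace CfsgLib.Coset.Fi23

/-- The generators. -/
noncomputable abbrev Lg : List Cfsg.Spor.Fi23 := pres.gens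

theorem len_Lg : (Lg).length = 10 := rfl

theorem hix : ∀ l < 10, ∃ x, ix x = l := by
  intro l hl
  interval_cases l
  exacts [⟨.a, rfl⟩, ⟨.b, rfl⟩, ⟨.c, rfl⟩, ⟨.d, rfl⟩, ⟨.e, rfl⟩, ⟨.f, rfl⟩, ⟨.g, rfl⟩, ⟨.j, rfl⟩,
    ⟨.h, rfl⟩, ⟨.i, rfl⟩]

theorem ev_rels : ∀ w ∈ rels, ev Lg w = 1 := rels_eq ▸ pres.ev_rels pres_ok

theorem sq_all (x : Nat) : fl Lg x * fl Lg x = 1 := pres.sq_all pres_ok hix x

theorem inv_all (x : Nat) : fl Lg (id x) = (fl Lg x)⁻¹ := by
  rw [id, inv_eq_of_mul_eq_one_right (sq_all x)]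

theorem closure_Lg : Subgroup.closure {x | x ∈ Lg} = ⊤ := pres.closure_gens pres_ok

/-- The subgroup of index 31671. -/
noncomputable abbrev H : Subgroup Cfsg.Spor.Fi23 := genW Lg Top.subs

theorem top_table : TableOK Lg H Top.E id 31671 Top.Rep Top.Tb :=
  tableOK_of_check inv_all Top.hR Top.hdefs Top.hsteps Top.htable ev_rels
    (fun _ hw => ev_mem_genW hw)

theorem perm_rels : ∀ w ∈ pres.rels, ev (sigList Top.hperm) w = 1 := by
  rw [rels_eq]
  intro w hw
  rcases List.mem_append.mp (rels_covered w hw) with h | h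
  · obtain ⟨p, hp, rfl⟩ := List.mem_map.mp h
    exact ev_pairWord_eq_one Top.hperm Top.hpairs (by decide +kernel) p hp
  · simp only [List.mem_cons, List.not_mem_nil, or_false] at h
    rcases h with rfl | rfl
    · exact ev_powWord_eq_one Top.hperm Top.hspider (by decide +kernel)
    · exact ev_powWord_eq_one Top.hperm Top.hcoxeter (by decide +kernel)

/-- The action on 31671 points. -/
noncomputable def ρ : Cfsg.Spor.Fi23 →* Equiv.Perm (Fin 31671) := pres.hom pres_ok perm_rels

theorem matches_ρ : Matches Lg ρ Top.Tb :=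
  pres.matches_hom pres_ok rfl hix Top.hperm perm_rels

theorem index_and_eq : H.index = 31671 ∧ H = pstab ρ ⟨0, by decide⟩ :=
  exact_index top_table matches_ρ (by decide) Top.htrans closure_Lg
    (genW_le_pstab matches_ρ _ (by decide +kernel) (by decide +kernel))

theorem transitive (i : Fin 31671) : ∃ g, ρ g ⟨0, by decide⟩ = i :=
  (matches_ρ.transitive (by decide) Top.htrans i).imp fun _ h => h.2

theorem subs_letters : checkLetters (Lg).length Top.subs = true := by decide +kernel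

theorem orbits_ok : checkOrbits Top.Tb 15 Top.subs Orb.certs = true := by
  refine allList_iff.mpr fun c hc => ?_
  simp only [Orb.certs, List.mem_cons, List.not_mem_nil, or_false] at hc
  rcases hc with rfl | rfl
  · simp only [cond_false_eq_true]
    exact ⟨by decide +kernel, Orb.orbit0, Orb.closed0⟩
  · simp only [cond_false_eq_true]
    exact ⟨by decide +kernel, Orb.orbit1, Orb.closed1⟩

theorem cover_ok : checkCover 31671 15 Orb.certs = true := Orb.cover

theorem rank_three : ∃ q₁ q₂ : Cfsg.Spor.Fi23 ⧸ H,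
    (MulAction.orbit H q₁).ncard = 3510 ∧ (MulAction.orbit H q₂).ncard = 28160 := by
  obtain ⟨q₁, h1⟩ := exists_orbit_coset index_and_eq.2 H transitive
    (orbits_ncard matches_ρ orbits_ok subs_letters (c := ⟨52, 3510, Orb.H1P, Orb.H1Inv⟩)
      (by simp [Orb.certs]) 52 rfl)
  obtain ⟨q₂, h2⟩ := exists_orbit_coset index_and_eq.2 H transitive
    (orbits_ncard matches_ρ orbits_ok subs_letters (c := ⟨1, 28160, Orb.H0P, Orb.H0Inv⟩)
      (by simp [Orb.certs]) 1 rfl)
  exact ⟨q₁, q₂, h1, h2⟩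

end CfsgLib.Coset.Fi23
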