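import Cfsg.Agent.Coset.Fi23.Main
import Cfsg.Agent.Coset.Fi23.L0
import Cfsg.Agent.Coset.Fi23.L1
import Cfsg.Agent.Coset.Fi23.L2
import Cfsg.Agent.Coset.Fi23.L3
import Cfsg.Agent.Coset.Fi23.L4
import Cfsg.Agent.Coset.Fi23.Col
import Cfsg.Prelude.Def_Sporadic

/-! The presented group `Cfsg.Spor.Fi23`: order and simplicity. -/

set_option autoImplicit false
set_option maxRecDepth 100000
set_option Elab.async false

namespace CfsgLib.Coset.Fi23

theorem level {S S' : List Nat} {rs subs : List (List Nat)} {E Rep Tb : Nat → Nat}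
    {R : Tr (List Nat × Nat)} {d d' N nC n dn dk : Nat} {C Ref : Nat → Nat} (k : Nat)
    (hk : S.length = k)
    (hc : checkLevel rels 10 S S' rs subs = true)
    (hR : checkRules rs subs R = true) (hd : checkDefs E k d' N = true)
    (hs : checkChunks E id R k d N nC C = true)
    (ht : checkTable E id (N + chunk * nC) n k dn dk Rep Ref Tb = true) :
    TableOK (lv Lg S) (genBy Lg S') E id n Rep Tb := by
  have hl : (lv Lg S).length = k := by simp [lv, hk]
  exact tableOK_of_check (inv_lv sq_all S) hR (hl.symm ▸ hd) (hl.symm ▸ hs) (hl.symm ▸ ht)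
    (level_rels len_Lg hc ev_rels) (level_subs len_Lg hc)

theorem card_H : Finite H ∧ Nat.card H ≤ 14080 * (3159 * (56 * (27 * (1920 * 1)))) := by
  have c0 : checkLevel rels 10 [0, 1, 2, 3, 4, 5, 6, 8, 9] [1, 2, 3, 4, 5, 6, 8, 9] L0.lrels L0.subs =
      true := by decide +kernel
  have c1 : checkLevel rels 10 [1, 2, 3, 4, 5, 6, 8, 9] [1, 2, 3, 4, 5, 6, 8] L1.lrels L1.subs =
      true := by decide +kernel
  have c2 : checkLevel rels 10 [1, 2, 3, 4, 5, 6, 8] [1, 2, 3, 4, 5, 8] L2.lrels L2.subs = true := by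
    decide +kernel
  have c3 : checkLevel rels 10 [1, 2, 3, 4, 5, 8] [2, 3, 4, 5, 8] L3.lrels L3.subs = true := by
    decide +kernel
  have c4 : checkLevel rels 10 [2, 3, 4, 5, 8] [] L4.lrels L4.subs = true := by decide +kernel
  have hH : H = genBy Lg [0, 1, 2, 3, 4, 5, 6, 8, 9] :=
    genW_singletons [0, 1, 2, 3, 4, 5, 6, 8, 9]
  rw [hH]
  exact level_card (level 9 rfl c0 L0.hR L0.hdefs L0.hsteps L0.htable) (by decide) c0
    (level_card (level 8 rfl c1 L1.hR L1.hdefs L1.hsteps L1.htable) (by decide) c1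
      (level_card (level 7 rfl c2 L2.hR L2.hdefs L2.hsteps L2.htable) (by decide) c2
        (level_card (level 6 rfl c3 L3.hR L3.hdefs L3.hsteps L3.htable) (by decide) c3
          (level_card (level 5 rfl c4 L4.hR L4.hdefs L4.hsteps L4.htable) (by decide) c4
            card_genBy_nil))))

theorem card_le : Finite Cfsg.Spor.Fi23 ∧ Nat.card Cfsg.Spor.Fi23 ≤ 4089470473293004800 := by
  obtain ⟨hf, hc⟩ := top_table.finite_card_le (by decide) (closure_Lg ▸ le_top) card_H.1 card_H.2
  rw [closure_Lg] at hf hc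
  rw [Subgroup.card_top] at hc
  exact ⟨Finite.of_equiv _ Subgroup.topEquiv.toEquiv, hc.trans (by norm_num)⟩

/-- A base. -/
def base : List (Fin 31671) := [0, 1, 224, 1640, 2]

theorem card_bound : 4089470473293004800 * Nat.card (baseStab ρ base) ≤ Nat.card Cfsg.Spor.Fi23 := by
  have := card_le.1
  have h5 : Nat.card (baseStab ρ base) ≤ Nat.card (baseStab ρ [(0 : Fin 31671), 1, 224, 1640, 2]) :=
    le_rfl
  have h4 := orbit_step matches_ρ (base := [(0 : Fin 31671), 1, 224, 1640]) (β := 2) (m := 27)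
    (dm := 5) (gens := Orb.B4G) (P := Orb.B4P) (Inv := Orb.B4Inv)
    (by decide +kernel) (by decide +kernel) (by decide +kernel) h5
  have h3 := orbit_step matches_ρ (base := [(0 : Fin 31671), 1, 224]) (β := 1640) (m := 7776)
    (dm := 13) (gens := Orb.B3G) (P := Orb.B3P) (Inv := Orb.B3Inv)
    (by decide +kernel) (by decide +kernel) (by decide +kernel) h4
  have h2 := orbit_step matches_ρ (base := [(0 : Fin 31671), 1]) (β := 224) (m := 21840) (dm := 15)
    (gens := Orb.B2G) (P := Orb.B2P) (Inv := Orb.B2Inv)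
    (by decide +kernel) (by decide +kernel) (by decide +kernel) h3
  have h1 := orbit_step matches_ρ (base := [(0 : Fin 31671)]) (β := 1) (m := 28160) (dm := 15)
    (gens := Orb.B1G) (P := Orb.B1P) (Inv := Orb.B1Inv)
    (by decide +kernel) (by decide +kernel) (by decide +kernel) h2
  have h0 := orbit_step matches_ρ (base := []) (β := 0) (m := 31671) (dm := 15)
    (gens := Orb.B0G) (P := Orb.B0P) (Inv := Orb.B0Inv)
    (by decide +kernel) (by decide +kernel) (by decide +kernel) h1
  have he : Nat.card (baseStab ρ ([] : List (Fin 31671))) = Nat.card Cfsg.Spor.Fi23 := by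
    simp [baseStab]
  rw [he] at h0
  simpa [← mul_assoc] using h0

theorem card_and_injective :
    Nat.card Cfsg.Spor.Fi23 = 4089470473293004800 ∧ Function.Injective ρ := by
  have := card_le.1
  refine card_eq_and_injective (by decide) card_le.2 ?_
  have he : Nat.card (baseStab ρ ([] : List (Fin 31671))) = Nat.card Cfsg.Spor.Fi23 := by
    simp [baseStab]
  rw [he]
  exact (Nat.mul_le_mul_left _ (card_ker_le base)).trans card_bound

theorem base_bot : baseStab ρ base = ⊥ :=
  haveI := card_le.1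
  baseStab_eq_bot (by decide) card_le.2 base card_bound

theorem ev_eq {v w : List Nat} (hv : checkLetters 10 [v] = true) (hw : checkLetters 10 [w] = true)
    (h : allList (fun b => Nat.beq (follow (tget Top.Tb) b v) (follow (tget Top.Tb) b w))
      [0, 1, 224, 1640, 2] = true) : ev Lg v = ev Lg w :=
  matches_ρ.ev_eq_of_base base_bot (len_Lg ▸ hv) (len_Lg ▸ hw) h

theorem u_pow : ev Lg Orb.u ^ 23 ^ 1 = 1 := by
  rw [pow_ev, ← ev_nil (L := Lg)]
  exact ev_eq (by decide +kernel) (by decide +kernel) (by decide +kernel)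

theorem ev_reverse (w : List Nat) : ev Lg w.reverse = (ev Lg w)⁻¹ := by
  induction w with
  | nil => simp
  | cons l w ih =>
    rw [List.reverse_cons, ev_append, ih]
    simp [mul_inv_rev, inv_eq_of_mul_eq_one_right (sq_all l)]

theorem collapse (N : Subgroup Cfsg.Spor.Fi23) [hN : N.Normal] (hu : ev Lg Orb.u ∈ N) : N = ⊤ := by
  have hc : ev Lg [0, 2] ∈ N := by
    have he : ev Lg (Orb.g.reverse ++ ([0] ++ Orb.u.reverse ++ [0] ++ Orb.u) ++ Orb.g) =
        ev Lg [0, 2] := ev_eq (by decide +kernel) (by decide +kernel) (by decide +kernel)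
    have ha : ev Lg [0] = (ev Lg [0])⁻¹ := by simpa using (ev_reverse [0])
    rw [← he]
    simp only [ev_append, ev_reverse]
    nth_rw 1 [ha]
    have h1 : (ev Lg [0])⁻¹ * (ev Lg Orb.u)⁻¹ * ev Lg [0] * ev Lg Orb.u ∈ N := by
      refine mul_mem ?_ hu
      simpa using hN.conj_mem _ (inv_mem hu) (ev Lg [0])⁻¹
    simpa using hN.conj_mem _ h1 (ev Lg Orb.g)⁻¹
  refine eq_top_of_collapse closure_Lg N hc fun L' hlen hL h1 => ?_
  have hl : L'.length = 10 := hlen
  have hr : ∀ w ∈ Col.crels, ev L' w = 1 := by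
    intro w hw
    rcases List.mem_append.mp hw with hw | hw
    · rw [hL, ev_rels w hw, map_one]
    · rw [List.mem_singleton.mp hw]; exact h1
  have hinv : ∀ x, fl L' (id x) = (fl L' x)⁻¹ := by
    intro x
    refine eq_inv_of_mul_eq_one_left ?_
    have := hL [x, x]
    simp only [ev_cons, ev_nil, mul_one, sq_all, map_one] at this
    exact this
  have hsub : ∀ w ∈ Col.subs, ev L' w ∈ (⊥ : Subgroup (Cfsg.Spor.Fi23 ⧸ N)) := by
    intro w hw; simp [Col.subs] at hw
  exact all_one_of_table (tableOK_of_check hinv Col.hR (hl.symm ▸ Col.hdefs)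
    (hl.symm ▸ Col.hsteps) (hl.symm ▸ Col.htable) hr hsub)

theorem isSimple : IsSimpleGroup Cfsg.Spor.Fi23 := by
  have := card_le.1
  have : Fact (Nat.Prime 23) := ⟨by norm_num⟩
  have hmax := pstab_isCoatom_of_orbits matches_ρ (by decide) orbits_ok subs_letters cover_ok
    transitive (by decide +kernel) index_and_eq.2.le (by decide +kernel) (by decide +kernel)
  refine isSimpleGroup_of_action (by decide) card_and_injective.2 transitive hmax
    (p := 23) (a := 1) (by norm_num) ?_ (ev Lg Orb.u) u_pow fun N hN hu => ?_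
  · rw [card_and_injective.1]; norm_num
  · exact @collapse N hN hu

theorem isFi23 : Cfsg.IsFi23 Cfsg.Spor.Fi23 := ⟨isSimple, card_and_injective.1⟩

end CfsgLib.Coset.Fi23
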