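import Cfsg.Agent.Coset.Fi23.Cover
import Cfsg.Agent.Coset.ThreeTransp

/-! `Cfsg.Spor.Fi23` is generated by a class of 31671 3-transpositions. -/

set_option autoImplicit false
set_option maxRecDepth 100000
set_option Elab.async false

namespace CfsgLib.Coset.Fi23

/-- The transposition. -/
noncomputable def t : Cfsg.Spor.Fi23 := ev Lg zw

theorem orderOf_t : orderOf t = 2 := by
  rw [t, ← coe_z]
  rw [Subgroup.orderOf_coe]
  exact orderOf_eq_prime (by rw [pow_two]; exact z_sq) z_ne_one

theorem H_isCoatom : IsCoatom H := by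
  rw [index_and_eq.2]
  exact pstab_isCoatom_of_orbits matches_ρ (by decide) orbits_ok subs_letters cover_ok
    transitive (by decide +kernel) index_and_eq.2.le (by decide +kernel) (by decide +kernel)

theorem centralizer_t : Subgroup.centralizer ({t} : Set Cfsg.Spor.Fi23) = H := by
  refine centralizer_eq_of_coatom H_isCoatom (fun h hh => ?_) (a := ev Lg [7]) ?_
  · rw [Subgroup.mem_centralizer_singleton_iff, t, ← coe_z]
    exact congrArg Subtype.val (Subgroup.mem_center_iff.mp z_center ⟨h, hh⟩)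
  · intro h
    rw [t, ← ev_append, ← ev_append] at h
    have hl : ∀ l ∈ [7] ++ zw, l < (Lg).length := by decide +kernel
    have hl' : ∀ l ∈ zw ++ [7], l < (Lg).length := by decide +kernel
    have h1 := matches_ρ.follow_eq _ (0 : Fin 31671) hl
    rw [h, matches_ρ.follow_eq _ (0 : Fin 31671) hl'] at h1
    have hn : Nat.beq (follow (tget Top.Tb) 0 (zw ++ [7]))
        (follow (tget Top.Tb) 0 ([7] ++ zw)) = false := by decide +kernel
    rw [show ((0 : Fin 31671) : Nat) = 0 from rfl] at h1
    rw [h1] at hn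
    simp at hn

theorem rep (w : List Nat) (hw : checkLetters 10 [w] = true) (β : Fin 31671)
    (hβ : Nat.beq (follow (tget Top.Tb) 0 w) β.val = true) {m : Nat}
    (hv : checkLetters 10 [(List.replicate m (zw ++ (w.reverse ++ zw ++ w))).flatten] = true)
    (hp : allList (fun b => Nat.beq
        (follow (tget Top.Tb) b (List.replicate m (zw ++ (w.reverse ++ zw ++ w))).flatten)
        (follow (tget Top.Tb) b [])) [0, 1, 224, 1640, 2] = true) :
    ρ (ev Lg w)⁻¹ ⟨0, by decide⟩ = β ∧
      (t * ((ev Lg w)⁻¹ * t * (ev Lg w)⁻¹⁻¹)) ^ m = 1 := by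
  constructor
  · rw [map_inv]
    refine Fin.ext ?_
    rw [matches_ρ.follow_eq w _ (letters_lt (len_Lg ▸ hw) w (by simp))]
    exact Nat.eq_of_beq_eq_true hβ
  · rw [t, inv_inv, ← ev_reverse, ← ev_append, ← ev_append, ← ev_append, pow_ev, ← ev_nil (L := Lg)]
    exact ev_eq hv (by decide +kernel) hp

theorem threeTransp : Cfsg.IsThreeTranspositionClass (conjugatesOf t) := by
  have := isSimple
  refine threeTransposition_class (ρ := ρ) (β₀ := ⟨0, by decide⟩) orderOf_t
    (centralizer_t.trans index_and_eq.2) fun i hi => ?_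
  obtain ⟨c, hc, horb⟩ := orbits_cover matches_ρ orbits_ok subs_letters cover_ok i
    (fun h => hi (Fin.ext h))
  simp only [Orb.certs, List.mem_cons, List.not_mem_nil, or_false] at hc
  rcases hc with rfl | rfl
  · obtain ⟨g, hg, rfl⟩ := horb 1 rfl
    obtain ⟨h1, h2⟩ := rep [7] (by decide +kernel) 1 (by decide +kernel) (m := 3)
      (by decide +kernel) (by decide +kernel)
    exact ⟨_, g, index_and_eq.2 ▸ hg, by rw [map_mul, Equiv.Perm.mul_apply, h1], Or.inr h2⟩
  · obtain ⟨g, hg, rfl⟩ := horb 52 rfl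
    obtain ⟨h1, h2⟩ := rep [7, 6, 5, 4, 3, 2, 8, 3, 4, 5, 6, 7] (by decide +kernel) 52
      (by decide +kernel) (m := 2) (by decide +kernel) (by decide +kernel)
    exact ⟨_, g, index_and_eq.2 ▸ hg, by rw [map_mul, Equiv.Perm.mul_apply, h1], Or.inl h2⟩

theorem card_class : Nat.card (conjugatesOf t) = 31671 := by
  rw [card_conjugatesOf, centralizer_t, index_and_eq.1]

theorem realization : ∃ (G : Type) (_ : Group G) (_ : Finite G), Cfsg.IsFi23 G ∧ ∃ D : Set G,
    Cfsg.IsThreeTranspositionClass D ∧ Nat.card D = 31671 ∧ ∀ d ∈ D, ∃ (K : Type) (_ : Group K),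
      Cfsg.IsFi22 K ∧ Cfsg.IsNonsplitDoubleCover (Subgroup.centralizer ({d} : Set G)) K := by
  refine ⟨Cfsg.Spor.Fi23, inferInstance, card_le.1, isFi23, conjugatesOf t, threeTransp, card_class,
    fun d hd => ⟨Cfsg.Spor.Fi22, inferInstance, Fi22.isFi22, ?_⟩⟩
  obtain ⟨g, rfl⟩ := isConj_iff.mp hd
  exact nonsplitDoubleCover_congr
    ((MulEquiv.subgroupCongr centralizer_t.symm).trans (centralizerConj g t)) double_cover

end CfsgLib.Coset.Fi23
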